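import Cfsg.Agent.N2.Cl.FixO.Odd
import Cfsg.Agent.N2.Cl.FrSp.Two
import Cfsg.Agent.N2.C1.Form

/-!
# N2 (S3519), orthogonal groups: two blocks, [FixO] (helper38)

* `FixO.two` : `H` preserves `{e, 1 - e}`, not of type `O₄⁺ ⊥ O₄⁺` over a field with at most three elements;
* `N2C.fixO : OnO pFix`.
-/

set_option autoImplicit false
set_option linter.unusedSectionVars false

namespace Cfsg.Agent.N2C.FixO

open Cfsg.Agent.DS.Cl Cfsg.Agent.DS.Cl.Fwd Module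
open Cfsg.Agent.TH.Cl (KO)
open Cfsg.Agent.LieClassical.OrthCore (O E Nondeg E_le_O)
open Cfsg.Agent.H955 (res perp nondeg_res_iff mem_perp')
open Cfsg.Agent.N2.C1 (SI rg)
open Cfsg.Agent.N2C.Cyc (unE I0 pr)

variable {K V : Type} [Field K] [Fintype K] [AddCommGroup V] [Module K V] [Finite V] {h : HF K V} {F : FR h.EB}
  {Q : QuadraticForm K V} {H : Subgroup (RingAut h.EB)} {p : ℕ} {e : h.EB}

/-- `Ω` covers the simple group -/
noncomputable def piE (k : KO h F Q) : E Q →* F.S :=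
  (pr F).comp (((unE h).symm.toMonoidHom.comp (E Q).subtype).codRestrict (I0 F) fun g =>
    (Cyc.mem_I0_O k _).2 (((unE h).apply_symm_apply g).symm ▸ g.2))

theorem piE_coe (k : KO h F Q) (g : E Q) : (piE k g : RingAut h.EB) = cj h.EB ((unE h).symm g) := rfl

theorem piE_surj (k : KO h F Q) : Function.Surjective (piE k) := fun s => by
  obtain ⟨u, rfl⟩ := Cyc.pr_surj F s
  exact ⟨⟨unE h u, (Cyc.mem_I0_O k _).1 u.2⟩, Subtype.ext (congrArg (cj h.EB) ((unE h).symm_apply_apply u))⟩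

theorem rg_cj (u : h.EBˣ) (e : h.EB) : rg h (cj h.EB u e) = im (unE h u) (rg h e) := by
  refine (im_eq ?_ (N2.C1.finrank_rg_cj u e).le).symm
  rintro _ ⟨v, rfl⟩
  exact ⟨h.ap u v, by rw [← h.ap_mul, cj_mul_eq, h.ap_mul]; rfl⟩

theorem perp_rg (k : KO h F Q) (he : SI e) : perp Q (rg h e) = rg h (1 - e) := by
  rw [← he.pp_rg]
  exact Submodule.ext fun v => mem_perp'.trans (forall₂_congr fun x _ => by rw [k.o.2.1])

theorem nd_rg (k : KO h F Q) (he : SI e) : Nondeg (res Q (rg h e)) :=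
  nondeg_res_iff.2 fun x hx n => he.nd x hx fun y hy => by rw [k.o.2.1, n y hy]

theorem rg_ne (h0 : e ≠ 0) : rg h e ≠ ⊥ := fun k => h0 (h.ap_ext fun v => k.le (⟨v, rfl⟩ : h.ap e v ∈ rg h e))

theorem piE_eq (k : KO h F Q) (he : SI e) {f : h.EB} (hf : SI f) (g : E Q) :
    (piE k g : RingAut h.EB) e = f ↔ im g (rg h e) = rg h f := by
  have h1 := rg_cj ((unE h).symm g) e
  rw [MulEquiv.apply_symm_apply, ← piE_coe k] at h1
  exact ⟨fun j => by rw [← h1, j], fun j => (he.map (F.S_le_Aut (piE k g).2)).rg_inj hf (h1.trans j)⟩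

/-- **two blocks** -/
theorem two (k : KO h F Q) (c : Ctx F H p) (h0 : e ≠ 0) (h1 : e ≠ 1) (hi : e * e = e) (hs : star e = e)
    (hI : ∀ γ ∈ H, γ e = e ∨ γ e = 1 - e) (hx : ¬ Ex Q (rg h e)) : Gd F H := by
  classical
  have he : SI e := ⟨hi, hs⟩
  have hmem : ∀ γ ∈ F.S, (γ e = e ∨ γ e = 1 - e) → γ ∈ H := by
    have h5 : ∀ γ : RingAut h.EB, (γ e = e ∨ γ e = 1 - e) → ∀ x ∈ (({e, 1 - e} : Finset h.EB) : Set h.EB),
        γ x ∈ (({e, 1 - e} : Finset h.EB) : Set h.EB) := fun γ hγ x hx => by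
      simp only [Finset.coe_insert, Finset.coe_singleton, Set.mem_insert_iff, Set.mem_singleton_iff] at hx ⊢
      rcases hx with rfl | rfl
      · exact hγ
      · rw [map_sub, map_one]
        exact hγ.elim (fun h6 => Or.inr (by rw [h6])) fun h6 => Or.inl (by rw [h6, sub_sub_cancel])
    exact fun γ hγ h6 => c.mem_of_inv (fun δ hδ => h5 δ (hI δ hδ))
      (FrSp.not_inv c (FrSp.fr_pair h0 h1 hi hs)) hγ (h5 γ h6)
  refine (N2.good_comap (piE k) (piE_surj k) _).1 (good_two (Cyc.nondeg_of_O k.o) k.dim (nd_rg k he) (rg_ne h0)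
    (by rw [perp_rg k he]; exact rg_ne (sub_ne_zero.2 h1.symm)) (fun g => ?_) hx)
  rw [St, perp_rg k he, ← piE_eq k he he, ← piE_eq k he he.compl]
  exact ⟨hI _, hmem _ (piE k g).2⟩

/-- in the exceptional case `F.S` interchanges the two blocks -/
theorem swap_of_ex (k : KO h F Q) (he : SI e) (hx : Ex Q (rg h e)) : ∃ s ∈ F.S, s e = 1 - e := by
  obtain ⟨g, hg, h1⟩ := exists_swap (Cyc.nondeg_of_O k.o) (le_trans (by norm_num) k.dim) hx.2.1 hx.2.2
  exact ⟨_, (piE k ⟨g, hg⟩).2, (piE_eq k he he.compl _).2 (h1.trans (perp_rg k he))⟩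

end Cfsg.Agent.N2C.FixO

namespace Cfsg.Agent.N2C

/-- [FixO] -/
theorem fixO : OnO pFix := fun _ _ _ _ _ _ _ _ _ _ _ _ k c ⟨_, h0, h1, hi, hs, hI⟩ =>
  FixO.two k c h0 h1 hi hs (fun γ hγ => Or.inl (hI γ hγ)) fun hx =>
    let ⟨_, h2, h3⟩ := FixO.swap_of_ex k ⟨hi, hs⟩ hx
    N2.C1.no_swap c h0 h1 ⟨hi, hs⟩ hI h2 h3

end Cfsg.Agent.N2C
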