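import Cfsg.Agent.N2.Cl.FrSp.Sing
import Cfsg.Agent.H530.OZ.Geo
import Cfsg.Agent.H955.QOdd
import Cfsg.Agent.H954.TSing7

/-!
# N2 (S3519), orthogonal groups: blocks (helper38)

`Bl Q Y a` : `a` preserves `Y`, `a²` has no fixed vector in `Y`, and `Y` has no proper non-degenerate `a`-invariant
subspace.  `Md K m ε j` : the space of dimension `2m` and sign `ε` has an isometry whose `j`-th power is such an element.
-/

set_option autoImplicit false
set_option linter.unusedSectionVars false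

namespace Cfsg.Agent.N2C.FixO

open Module QuadraticMap Polynomial
open Cfsg.Agent.LieClassical.OrthCore Cfsg.Agent.LieClassical.OrthTrans
open Cfsg.Agent.H955 (res perp nondeg_res_iff mem_perp mem_perp')
open Cfsg.Agent.H182.Sign (Sg)
open Cfsg.Agent.H530.CJ (tq dw Tor)

variable {K V X : Type} [Field K] [AddCommGroup V] [Module K V] [AddCommGroup X] [Module K X]
  {Q : QuadraticForm K V} {R : QuadraticForm K X} {Y Z : Submodule K V} {a : V ≃ₗ[K] V}

/-- a block -/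
structure Bl (Q : QuadraticForm K V) (Y : Submodule K V) (a : V ≃ₗ[K] V) : Prop where
  iv : ∀ y ∈ Y, a y ∈ Y
  fr : ∀ y ∈ Y, a (a y) = y → y = 0
  ir : ∀ Z ≤ Y, Nondeg (res Q Z) → (∀ z ∈ Z, a z ∈ Z) → Z = ⊥ ∨ Z = Y

theorem Bl.congr (b : Bl Q Y a) {a' : V ≃ₗ[K] V} (h : ∀ y ∈ Y, a' y = a y) : Bl Q Y a' where
  iv y hy := h y hy ▸ b.iv y hy
  fr y hy k := b.fr y hy (by rwa [h y hy, h _ (b.iv y hy)] at k)
  ir Z hZ n k := b.ir Z hZ n fun z hz => h z (hZ hz) ▸ k z hz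

theorem Bl.map {u : X ≃ₗ[K] X} (b : Bl R ⊤ u) {f : X →ₗ[K] V} (hf : Function.Injective f) (hQ : ∀ x, Q (f x) = R x)
    (ha : ∀ x, a (f x) = f (u x)) : Bl Q (LinearMap.range f) a where
  iv := by
    rintro _ ⟨x, rfl⟩
    exact ⟨_, (ha x).symm⟩
  fr := by
    rintro _ ⟨x, rfl⟩ k
    rw [ha, ha] at k
    rw [b.fr x trivial (hf k), map_zero]
  ir Z hZ n k := by
    have h1 : (Z.comap f).map f = Z := Submodule.map_comap_eq_self hZ
    refine (b.ir (Z.comap f) le_top (nondeg_res_iff.2 fun x hx h2 => hf ?_) (fun z hz => ?_)).imp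
      (fun h2 => by rw [← h1, h2, Submodule.map_bot]) fun h2 => by rw [← h1, h2, Submodule.map_top]
    · rw [map_zero]
      refine nondeg_res_iff.1 n _ hx fun y hy => ?_
      obtain ⟨y, rfl⟩ := hZ hy
      rw [← h2 y hy]
      simp only [polar, ← map_add, hQ]
    · change f (u z) ∈ Z
      exact ha z ▸ k _ hz

section core

variable [FiniteDimensional K V]

theorem split (n : Nondeg (res Q Y)) (v : V) : ∃ y ∈ Y, ∃ w ∈ perp Q Y, y + w = v :=
  Submodule.mem_sup.1 ((H955.isCompl_perp n).sup_eq_top ▸ Submodule.mem_top)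

/-- Fitting's decomposition -/
theorem Bl.fit (b : Bl Q Y a) (hp : ∀ w ∈ perp Q Y, a (a w) = w) (hZ : ∀ z ∈ Z, a (a z) ∈ Z) {y w : V} (hy : y ∈ Y)
    (hw : w ∈ perp Q Y) (h : y + w ∈ Z) : y ∈ Z := by
  let T : V →ₗ[K] V := (a : V →ₗ[K] V) ∘ₗ (a : V →ₗ[K] V) - LinearMap.id
  have hT : ∀ v, T v = a (a v) - v := fun _ => rfl
  have h1 : ∀ v ∈ Z ⊓ Y, T v ∈ Z ⊓ Y := fun v hv =>
    ⟨Z.sub_mem (hZ v hv.1) hv.1, Y.sub_mem (b.iv _ (b.iv v hv.2)) hv.2⟩
  have h2 : Function.Injective (T.restrict h1) := (injective_iff_map_eq_zero _).2 fun v k =>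
    Subtype.ext (b.fr _ v.2.2 (sub_eq_zero.1 (congrArg Subtype.val k)))
  have h3 : T (y + w) = T y := by rw [map_add, hT w, hp w hw, sub_self, add_zero]
  obtain ⟨v, hv⟩ := LinearMap.injective_iff_surjective.1 h2
    ⟨T y, h3 ▸ Z.sub_mem (hZ _ h) h, Y.sub_mem (b.iv _ (b.iv y hy)) hy⟩
  have h4 : T (v - y) = 0 := by rw [map_sub, show T v = T y from congrArg Subtype.val hv, sub_self]
  rw [← sub_eq_zero.1 (b.fr _ (Y.sub_mem v.2.2 hy) (sub_eq_zero.1 h4))]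
  exact v.2.1

/-- an invariant non-degenerate subspace contains the block or is orthogonal to it -/
theorem Bl.core (b : Bl Q Y a) (n : Nondeg (res Q Y)) (hp : ∀ w ∈ perp Q Y, a (a w) = w) (m : Nondeg (res Q Z))
    (hZ : ∀ z ∈ Z, a z ∈ Z) : Z ≤ perp Q Y ∨ Y ≤ Z := by
  have h1 : ∀ z ∈ Z, ∃ y ∈ Z ⊓ Y, ∃ w ∈ perp Q Y, y + w = z := fun z hz => by
    obtain ⟨y, hy, w, hw, rfl⟩ := split n z
    exact ⟨y, ⟨b.fit hp (fun z hz => hZ _ (hZ z hz)) hy hw hz, hy⟩, w, hw, rfl⟩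
  refine (b.ir (Z ⊓ Y) inf_le_right (nondeg_res_iff.2 fun x hx k => nondeg_res_iff.1 m x hx.1 fun z hz => ?_)
    (fun z hz => ⟨hZ z hz.1, b.iv z hz.2⟩)).imp (fun h z hz => ?_) inf_eq_right.1
  · obtain ⟨y, hy, w, hw, rfl⟩ := h1 z hz
    rw [polar_add_right, k y hy, hw x hx.2, add_zero]
  · obtain ⟨y, hy, w, hw, rfl⟩ := h1 z hz
    rwa [h.le hy, zero_add]

/-- no interchange of two blocks -/
theorem Bl.noswap (b : Bl Q Y a) (hQ : Nondeg Q) (n : Nondeg (res Q Y)) (hp : ∀ w ∈ perp Q Y, a w = w)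
    (m : Nondeg (res Q Z)) (h1 : ∀ z ∈ Z, a z ∈ perp Q Z) (h2 : ∀ z ∈ perp Q Z, a z ∈ Z) : perp Q Y = ⊥ := by
  have k : ∀ P P' : Submodule K V, (∀ z ∈ P, a z ∈ P') → (∀ z ∈ P', a z ∈ P) → (∀ z ∈ P, z ∈ P' → z = 0) → P ≤ Y :=
    fun P P' h1 h2 h3 z hz => by
      obtain ⟨y, hy, w, hw, rfl⟩ := split n z
      have h4 : w ∈ P := by
        simpa using P.sub_mem hz
          (b.fit (fun w hw => by rw [hp w hw, hp w hw]) (fun z hz => h2 _ (h1 z hz)) hy hw hz)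
      rwa [h3 w h4 (hp w hw ▸ h1 w h4), add_zero]
  have h3 : ∀ z ∈ Z, z ∈ perp Q Z → z = 0 := fun z hz k => nondeg_res_iff.1 m z hz (mem_perp'.1 k)
  refine eq_bot_iff.2 fun w hw => hQ w fun v => ?_
  obtain ⟨y, hy, z, hz, rfl⟩ := split m v
  exact mem_perp'.1 hw _ (Y.add_mem (k _ _ h1 h2 h3 hy) (k _ _ h2 h1 (fun z p q => h3 z q p) hz))

theorem exists_ext (hR : Nondeg R) {f : X →ₗ[K] V} (hf : Function.Injective f) (hQ : ∀ x, Q (f x) = R x)
    {u : X ≃ₗ[K] X} (hu : u ∈ O R) {j : ℕ} (b : Bl R ⊤ (u ^ j)) :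
    ∃ g ∈ O Q, Bl Q (LinearMap.range f) (g ^ j) ∧ ∀ v ∈ perp Q (LinearMap.range f), g v = v := by
  obtain ⟨n, -, -⟩ := H955.range_props hR hf hQ
  let e := LinearEquiv.ofInjective f hf
  refine ⟨H955.ext1 n (H955.tr e u), H955.ext1_mem_O n ((H955.tr_mem_O e (fun x => hQ x)).2 hu), b.map hf hQ ?_,
    fun v hv => H955.ext1_right n _ hv⟩
  have h1 : ∀ x, H955.ext1 n (H955.tr e u) (f x) = f (u x) := fun x => by
    have h2 := H955.ext1_left n (H955.tr e u) (e x)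
    rwa [H955.tr_apply, e.symm_apply_apply] at h2
  clear b
  induction j with
  | zero => exact fun _ => rfl
  | succ j ih => exact fun x => by rw [pow_succ, pow_succ, LinearEquiv.mul_apply, LinearEquiv.mul_apply, h1, ih]

end core

/-! ### models -/

/-- the model of dimension `2m` and sign `ε` -/
def Md (K : Type) [Field K] [Finite K] (m : ℕ) (ε : ℤ) (j : ℕ) : Prop :=
  ∃ (X : Type) (_ : AddCommGroup X) (_ : Module K X) (_ : Finite X) (R : QuadraticForm K X) (u : X ≃ₗ[K] X),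
    Sg R m ε ∧ u ∈ O R ∧ Bl R ⊤ (u ^ j)

variable [Fintype K] {m j : ℕ} {ε : ℤ}

theorem md_minus (hm : 2 ≤ m) : Md K m (-1) 2 := by
  obtain ⟨L, _, _, _, R, u, hR, ho, hu⟩ := H530.OZ.exists_torusM K (k := m) (by omega)
  let s : FrSp.Sg K L m := ⟨FiniteField.frobeniusAlgEquivOfAlgebraic K L ^ m, u, by omega, hR.dim, fun x => by
    rw [AlgEquiv.coe_pow, FiniteField.coe_frobeniusAlgEquivOfAlgebraic_iterate], ho⟩
  have h4 : 4 ≤ Fintype.card K ^ m :=
    le_trans (Nat.pow_le_pow_left Fintype.one_lt_card 2) (Nat.pow_le_pow_right Fintype.card_pos hm)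
  have h1 : ∀ x, (H93.CJ.mulL K u s.lam_ne ^ 2) x = u ^ 2 * x := fun x => by
    rw [pow_two, pow_two, mul_assoc]; rfl
  refine ⟨L, _, _, inferInstance, R, H93.CJ.mulL K u s.lam_ne, hR, hu, fun _ _ => trivial, fun y _ k => ?_,
    fun Z _ _ k => ?_⟩
  · rw [h1, h1, ← mul_assoc, ← pow_add] at k
    exact (mul_left_eq_self₀.1 k).resolve_left (s.pow_ne (by norm_num) h4)
  · refine or_iff_not_imp_left.2 fun h0 => eq_top_iff.2 fun y _ => ?_
    obtain ⟨x, hx, h2⟩ := Submodule.exists_mem_ne_zero_of_ne_bot h0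
    exact FrSp.Sg.irr (s.gen (Or.inr ⟨rfl, h4⟩)) Z (fun x hx => h1 x ▸ k x hx) hx h2 y

theorem bl_dw {L : Type} [Field L] [Finite L] [Algebra K L] {t : Lˣ} (h : Tor K (t : L)) : Bl (tq K L) ⊤ (dw t) := by
  refine ⟨fun _ _ => trivial, fun y _ k => ?_, fun Z _ n k => ?_⟩
  · have h1 : (t : L) * t ≠ 1 := fun e => h.inv 1 (eq_inv_of_mul_eq_one_left e)
    have h2 : ((t⁻¹ : Lˣ) : L) * (t⁻¹ : Lˣ) ≠ 1 := fun e => h1 (by
      rw [Units.val_inv_eq_inv_val, ← mul_inv, inv_eq_one] at e; exact e)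
    rw [H530.CJ.dw_apply, H530.CJ.dw_apply, Prod.ext_iff, ← mul_assoc, ← mul_assoc] at k
    exact Prod.ext ((mul_left_eq_self₀.1 k.1).resolve_left h1) ((mul_left_eq_self₀.1 k.2).resolve_left h2)
  let S : Subalgebra K (L × L) :=
    { carrier := {s | ∀ z ∈ Z, s * z ∈ Z}
      mul_mem' := fun hs hs' z hz => by rw [mul_assoc]; exact hs _ (hs' z hz)
      add_mem' := fun hs hs' z hz => by rw [add_mul]; exact Z.add_mem (hs z hz) (hs' z hz)
      algebraMap_mem' := fun c z hz => by rw [← Algebra.smul_def]; exact Z.smul_mem c hz }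
  have hS : ∀ {x y : L}, (x, y) ∈ S → ∀ f : K[X], (aeval x f, aeval y f) ∈ S := fun {x y} hx f => by
    rw [← aeval_prod_apply (x, y)]
    exact Algebra.adjoin_le (Set.singleton_subset_iff.2 hx) (aeval_mem_adjoin_singleton _ _)
  have h1 : ((t : L), (t : L)⁻¹) ∈ S := fun z hz => by
    have h2 := k z hz
    rwa [H530.CJ.dw_apply, Units.val_inv_eq_inv_val] at h2
  have h2 : ((t : L)⁻¹, (t : L)) ∈ S := by
    have h3 : (t : L) ^ (orderOf t - 1) = (t : L)⁻¹ := eq_inv_of_mul_eq_one_left (by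
      rw [← pow_succ, Nat.sub_add_cancel (orderOf_pos t), ← Units.val_pow_eq_pow_val, pow_orderOf_eq_one, Units.val_one])
    have h4 := S.pow_mem h1 (orderOf t - 1)
    rwa [Prod.pow_mk, inv_pow, h3, inv_inv] at h4
  have h3 : ∀ x : L, ∃ f : K[X], aeval (t : L) f = x := fun x => by
    have h4 : x ∈ Algebra.adjoin K {(t : L)} := h.gen ▸ trivial
    rwa [Algebra.adjoin_singleton_eq_range_aeval] at h4
  have h4 : aeval (t : L)⁻¹ (minpoly K (t : L)) ≠ 0 := fun e => by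
    obtain ⟨σ, hσ⟩ := minpoly.exists_algEquiv_of_root' (Algebra.IsAlgebraic.isAlgebraic (t : L)) e
    exact h.inv σ hσ
  have h5 : ∀ z ∈ Z, z.2 ≠ 0 → ∀ y, ((0, y) : L × L) ∈ Z := fun z hz h0 y => by
    obtain ⟨f, hf⟩ := h3 (y / (aeval (t : L)⁻¹ (minpoly K (t : L)) * z.2))
    have h6 := hS h2 f _ (hS h1 (minpoly K (t : L)) z hz)
    rwa [hf, minpoly.aeval, Prod.mul_def, Prod.mul_def, zero_mul, mul_zero, div_mul_cancel₀ _ (mul_ne_zero h4 h0)] at h6
  have h6 : ∀ z ∈ Z, z.1 ≠ 0 → ∀ x, ((x, 0) : L × L) ∈ Z := fun z hz h0 x => by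
    obtain ⟨f, hf⟩ := h3 (x / (aeval (t : L)⁻¹ (minpoly K (t : L)) * z.1))
    have h6 := hS h1 f _ (hS h2 (minpoly K (t : L)) z hz)
    rwa [hf, minpoly.aeval, Prod.mul_def, Prod.mul_def, zero_mul, mul_zero, div_mul_cancel₀ _ (mul_ne_zero h4 h0)] at h6
  by_cases h7 : ∃ z ∈ Z, z.1 ≠ 0
  · by_cases h8 : ∃ z ∈ Z, z.2 ≠ 0
    · obtain ⟨z, hz, h7⟩ := h7
      obtain ⟨w, hw, h8⟩ := h8
      exact Or.inr (eq_top_iff.2 fun v _ => by simpa using Z.add_mem (h6 z hz h7 v.1) (h5 w hw h8 v.2))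
    · push Not at h8
      exact Or.inl (eq_bot_iff.2 fun z hz => nondeg_res_iff.1 n z hz fun y hy => by
        rw [H530.CJ.polar_tq, h8 z hz, h8 y hy, mul_zero, mul_zero, map_zero, add_zero])
  · push Not at h7
    exact Or.inl (eq_bot_iff.2 fun z hz => nondeg_res_iff.1 n z hz fun y hy => by
      rw [H530.CJ.polar_tq, h7 z hz, h7 y hy, zero_mul, zero_mul, map_zero, add_zero])

theorem md_of_tor {L : Type} [Field L] [Finite L] [Algebra K L] (hL : finrank K L = m) {u : Lˣ}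
    (h : Tor K ((u : L) ^ j)) : Md K m 1 j :=
  ⟨L × L, _, _, inferInstance, tq K L, dw u, H530.OZ.sg_tq K L hL, H530.CJ.dw_mem_O u, by
    rw [H530.OZ.dw_pow]; exact bl_dw h⟩

theorem md_plus (hm : 3 ≤ m) : Md K m 1 2 := by
  obtain ⟨L, _, _, b, _, -⟩ := H93.PReg.Singer.exists_ext K m (by omega)
  have := Fintype.ofFinite L
  have hL : finrank K L = m := by rw [finrank_eq_card_basis b, Fintype.card_fin]
  obtain ⟨u, h0, hu⟩ := H530.CJ.exists_t (F := K) (E := L) (hL ▸ hm)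
  exact md_of_tor hL (u := Units.mk0 u h0) hu

theorem md_four (h0 : 0 < j) (hj : j + 1 < Fintype.card K) : Md K 2 1 j := by
  obtain ⟨L, _, _, b, _, g, -, hg⟩ := H93.PReg.Singer.exists_ext K 2 two_ne_zero
  have hL : finrank K L = 2 := by rw [finrank_eq_card_basis b, Fintype.card_fin]
  have h1 : ∀ i, 0 < i → i ≤ Fintype.card K + 1 → ((g : L) ^ j) ^ i ≠ 1 := fun i h2 h3 => by
    rw [← pow_mul]
    refine pow_ne_one_of_lt_orderOf (Nat.mul_pos h0 h2).ne' ?_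
    rw [orderOf_units, hg, show Fintype.card K ^ 2 - 1 = (Fintype.card K - 1) * (Fintype.card K + 1) by
      rw [mul_comm, ← Nat.sq_sub_sq, one_pow]]
    exact Nat.mul_lt_mul_of_lt_of_le (by omega) h3 (by omega)
  refine md_of_tor hL (u := g) ⟨pow_ne_zero _ g.ne_zero, H530.OZ.adjoin_eq_top (pow_ne_zero _ g.ne_zero) rfl
    fun i h2 h3 h4 => ?_, fun σ hσ => ?_⟩
  · obtain rfl : i = 1 := by omega
    rw [pow_one, Nat.card_eq_fintype_card] at h4
    exact h1 _ (by omega) (by omega) (orderOf_dvd_iff_pow_eq_one.1 h4)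
  · obtain ⟨i, rfl⟩ := (FiniteField.bijective_frobeniusAlgEquivOfAlgebraic_pow K L).2 σ
    rw [AlgEquiv.coe_pow, FiniteField.coe_frobeniusAlgEquivOfAlgebraic_iterate] at hσ
    refine h1 (Fintype.card K ^ i.1 + 1) (Nat.succ_pos _) (Nat.succ_le_succ ?_) ?_
    · exact (Nat.pow_le_pow_right Fintype.card_pos (show i.1 ≤ 1 by have := i.2; omega)).trans_eq (pow_one _)
    · rw [pow_succ, show ((g : L) ^ j) ^ Fintype.card K ^ i.1 = _ from hσ, inv_mul_cancel₀ (pow_ne_zero _ g.ne_zero)]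

variable [Finite V]

theorem exists_sg (hQ : Nondeg Q) (hm : finrank K V = 2 * m) : Sg Q m 1 ∨ Sg Q m (-1) := by
  have : Module.Finite K V := Module.Finite.of_finite
  rcases H182.Sign.classify' Q hQ m hm with ⟨e, he⟩ | ⟨k, rfl, a, b, hab, e, he⟩
  · exact Or.inl ((H182.Sign.sg_plusForm m).congr e he)
  · exact Or.inr ((H182.Sign.sg_minusForm k hab).congr e he)

/-- the block is the given subspace -/
theorem Md.on (h : Md K m ε j) (hY : Sg (res Q Y) m ε) : ∃ g ∈ O Q, Bl Q Y (g ^ j) ∧ ∀ v ∈ perp Q Y, g v = v := by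
  have : Module.Finite K V := Module.Finite.of_finite
  obtain ⟨X, _, _, _, R, u, hR, hu, b⟩ := h
  obtain ⟨e, he⟩ := hR.exists_equiv hY
  have h1 := exists_ext (Q := Q) (f := Y.subtype ∘ₗ e.toLinearMap) hR.nondeg (Y.injective_subtype.comp e.injective) he hu b
  rwa [LinearMap.range_comp, LinearEquiv.range, Submodule.map_top, Submodule.range_subtype] at h1

/-- the block is inside the given subspace -/
theorem Md.emb (h : Md K m ε j) (h2 : (2 : K) ≠ 0) {U : Submodule K V} (hU : Nondeg (res Q U))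
    (hm : 2 * m < finrank K U) : ∃ Y ≤ U, Nondeg (res Q Y) ∧ finrank K Y = 2 * m ∧
      ∃ g ∈ O Q, Bl Q Y (g ^ j) ∧ ∀ v ∈ perp Q Y, g v = v := by
  have : Module.Finite K V := Module.Finite.of_finite
  obtain ⟨X, _, _, _, R, u, hR, hu, b⟩ := h
  have : Module.Finite K X := Module.Finite.of_finite
  obtain ⟨f, hf, he⟩ := H954.TSing.exists_embedding_odd h2 _ hU hR.nondeg hR.dim (hR.dim ▸ hm)
  have h1 : Function.Injective (U.subtype ∘ₗ f) := U.injective_subtype.comp hf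
  obtain ⟨n, h3, -⟩ := H955.range_props (Q := Q) hR.nondeg h1 he
  refine ⟨_, ?_, n, h3.trans hR.dim, exists_ext hR.nondeg h1 he hu b⟩
  rintro _ ⟨x, rfl⟩
  exact (f x).2

end Cfsg.Agent.N2C.FixO
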