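import Cfsg.Agent.N2.Cl.FixO.Quad

/-!
# N2 (S3519), orthogonal groups: the larger block has odd dimension (helper38)

The element is a Singer cycle on a hyperplane `Y` of minus type of the larger block; the fixed pairs of blocks are labelled
by the hyperplanes of `Y^⊥`.
-/

set_option autoImplicit false
set_option linter.unusedSectionVars false

namespace Cfsg.Agent.N2C.FixO

open Module QuadraticMap
open Cfsg.Agent.LieClassical.OrthCore Cfsg.Agent.LieClassical.OrthTrans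
open Cfsg.Agent.LieClassical.OrthFinite (good_of_finite)
open Cfsg.Agent.H955 (res perp nondeg_res_iff mem_perp mem_perp' perp_perp nondeg_perp finrank_add_perp)

theorem num1 {q k c : ℕ} (hq : 3 ≤ q) (hk : 1 ≤ k) (h : c * (q - 1) < q ^ (k + 1) + (q - 1)) : 3 * c ≤ 5 * q ^ k := by
  have h1 : q ≤ q ^ k := Nat.le_self_pow (by omega) q
  rw [pow_succ] at h
  generalize q ^ k = x at *
  obtain ⟨r, rfl⟩ := Nat.exists_eq_add_of_le' hq
  rw [show r + 3 - 1 = r + 2 by omega] at h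
  by_contra h2
  rcases Nat.eq_zero_or_pos r with rfl | h3
  · omega
  · nlinarith

theorem num2 {c x y z a b s o e β : ℕ} (h1 : 3 * c ≤ 5 * x) (h2 : β ≤ s * (a * b)) (h3 : 3 * a ≤ 8 * y) (h4 : b ≤ 2 * z)
    (h5 : 5 * (80 * s * (x ^ 3 * (y * z))) ≤ 4 * o) (h6 : o ≤ 4 * e) : c ^ 3 * β ≤ e := by
  have h7 := Nat.mul_le_mul (Nat.pow_le_pow_left h1 3) (Nat.mul_le_mul_left s (Nat.mul_le_mul h3 h4))
  have h8 := Nat.mul_le_mul_left (c ^ 3) h2
  have h9 : (3 * c) ^ 3 * (s * (3 * a * b)) = 81 * (c ^ 3 * (s * (a * b))) := by ring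
  have h10 : (5 * x) ^ 3 * (s * (8 * y * (2 * z))) = 2000 * (s * (x ^ 3 * (y * z))) := by ring
  rw [mul_assoc 80] at h5
  omega

theorem tri_add (k d : ℕ) : (k + d) * (k + d - 1) / 2 = k * (k - 1) / 2 + d * (d - 1) / 2 + k * d := by
  induction d with
  | zero => simp
  | succ d ih => rw [← add_assoc, Cyc.tri_succ, Cyc.tri_succ, ih]; ring

variable {K V : Type} [Field K] [Fintype K] [AddCommGroup V] [Module K V] [Finite V]
  {Q : QuadraticForm K V} {W X P : Submodule K V} {B : Subgroup (E Q)}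

/-- non-degenerate hyperplanes -/
theorem hyp (m : Nondeg (res Q X)) (n : Nondeg (res Q P)) (hle : P ≤ X) (hd : finrank K X ≤ finrank K P + 1) :
    ∃ v ∈ X, P = X ⊓ perp Q (K ∙ v) := by
  have : Module.Finite K V := Module.Finite.of_finite
  have h1 := Submodule.finrank_sup_add_finrank_inf_eq P (X ⊓ perp Q P)
  have h2 := Submodule.finrank_mono (sup_le hle inf_le_left : P ⊔ X ⊓ perp Q P ≤ X)
  rw [H955.inf_perp_eq_bot n inf_le_right, finrank_bot] at h1
  obtain ⟨v, hv⟩ := finrank_le_one_iff.1 (show finrank K ↥(X ⊓ perp Q P) ≤ 1 by omega)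
  have h3 : ∀ x ∈ X, ∃ y ∈ P, ∃ c : K, y + c • v.1 = x := fun x hx => by
    obtain ⟨y, hy, w, hw, rfl⟩ := split n x
    obtain ⟨c, hc⟩ := hv ⟨w, by simpa using X.sub_mem hx (hle hy), hw⟩
    exact ⟨y, hy, c, congrArg (y + ·) (congrArg Subtype.val hc)⟩
  have h4 : P ≤ perp Q (K ∙ v.1) := fun y hy w hw => by
    obtain ⟨c, rfl⟩ := Submodule.mem_span_singleton.1 hw
    rw [polar_smul_left, mem_perp'.1 v.2.2 y hy, smul_zero]
  refine ⟨v, v.2.1, le_antisymm (le_inf hle h4) fun x hx => ?_⟩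
  obtain ⟨y, hy, c, rfl⟩ := h3 x hx.1
  have h5 : c • v.1 ∈ perp Q (K ∙ v.1) := by simpa using (perp Q _).sub_mem hx.2 (h4 hy)
  rwa [nondeg_res_iff.1 m (c • v.1) (X.smul_mem c v.2.1) fun z hz => ?_, add_zero]
  obtain ⟨y', hy', c', rfl⟩ := h3 z hz
  rw [polar_add_right, mem_perp'.1 ((perp Q P).smul_mem c v.2.2) y' hy',
    mem_perp'.1 h5 _ (Submodule.smul_mem _ c' (Submodule.mem_span_singleton_self _)), add_zero]

/-- the fixed pairs are labelled by hyperplanes -/
theorem fx_lt (hQ : Nondeg Q) (hB : ∀ g, g ∈ B ↔ St Q W g) {a : E Q} (h : ∀ t : E Q, t⁻¹ * a * t ∈ B →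
    ∃ v ∈ X, im t W = X ⊓ perp Q (K ∙ v) ∨ perp Q (im t W) = X ⊓ perp Q (K ∙ v)) :
    FP3.fx B a * (Fintype.card K - 1) < Fintype.card K ^ finrank K X + (Fintype.card K - 1) := by
  classical
  have := finE Q
  have k := fun x : MulAction.fixedBy (E Q ⧸ B) a =>
    h x.1.out ((N2.smul_mk_iff B a _).1 (by rw [QuotientGroup.out_eq']; exact x.2))
  choose v hv hv' using k
  have h1 : ∀ x y, (K ∙ v x) = (K ∙ v y) → x = y := fun x y e => Subtype.ext (by
    rw [← QuotientGroup.out_eq' x.1, ← QuotientGroup.out_eq' y.1, QuotientGroup.eq]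
    exact (hB _).2 (st_of hQ (E_le_O x.1.out.2) (hv' x) (e ▸ hv' y)))
  let f : MulAction.fixedBy (E Q ⧸ B) a × Kˣ → X ⊕ Kˣ := fun x =>
    if v x.1 = 0 then .inr x.2 else .inl ⟨(x.2 : K) • v x.1, X.smul_mem _ (hv _)⟩
  have := Fintype.ofFinite (MulAction.fixedBy (E Q ⧸ B) a)
  have := Fintype.ofFinite X
  have h2 := Fintype.card_lt_of_injective_of_notMem f (b := .inl 0) (fun x y e => ?_) ?_
  · rwa [Fintype.card_prod, Fintype.card_sum, Fintype.card_units, card_eq_pow_finrank (K := K) (V := X),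
      ← Nat.card_eq_fintype_card] at h2
  · simp only [f] at e
    split_ifs at e with h3 h4
    · exact Prod.ext (h1 _ _ (by rw [h3, h4])) (Sum.inr.inj e)
    · have h5 : (x.2 : K) • v x.1 = (y.2 : K) • v y.1 := congrArg Subtype.val (Sum.inl.inj e)
      have h6 := h1 x.1 y.1 (by
        rw [← Submodule.span_singleton_smul_eq x.2.isUnit, h5, Submodule.span_singleton_smul_eq y.2.isUnit])
      rw [← h6] at h5
      exact Prod.ext h6 (Units.ext (smul_left_injective K h3 h5))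
  · rintro ⟨x, e⟩
    simp only [f] at e
    split_ifs at e with h3
    exact smul_ne_zero x.2.ne_zero h3 (congrArg Subtype.val (Sum.inl.inj e))

/-- the order of the stabiliser -/
theorem card_St (hQ : Nondeg Q) (n : Nondeg (res Q W)) (hB : ∀ g, g ∈ B ↔ St Q W g) :
    Nat.card B ≤ (if finrank K W = finrank K (perp Q W) then 2 else 1) *
      (Nat.card (O (res Q W)) * Nat.card (O (res Q (perp Q W)))) := by
  classical
  have : Module.Finite K V := Module.Finite.of_finite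
  have : Finite (V ≃ₗ[K] V) := Finite.of_injective (fun g : V ≃ₗ[K] V => (g : V → V)) DFunLike.coe_injective
  rw [← H989.Fx.card_stab ⟨H955.isCompl_perp n, fun u hu w hw => hw u hu⟩]
  have k : ∀ g : E Q, im g W = W → (∀ u ∈ W, g.1 u ∈ W) ∧ ∀ w ∈ perp Q W, g.1 w ∈ perp Q W := fun g h =>
    ⟨fun u hu => h.le ⟨u, hu, rfl⟩, fun u hu =>
      (show im g (perp Q W) = perp Q W by rw [← perp_im (E_le_O g.2), h]).le ⟨u, hu, rfl⟩⟩
  by_cases h : ∃ s : E Q, im s W = perp Q W
  · obtain ⟨s, hs⟩ := h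
    rw [if_pos (by rw [← hs, dim_im]), two_mul, ← Nat.card_sum]
    refine Nat.card_le_card_of_injective (fun g => if h : im g.1 W = W then .inl ⟨⟨_, E_le_O g.1.2⟩, k _ h⟩ else
      .inr ⟨⟨_, E_le_O (s * g.1).2⟩, k _ (by
        rw [Subgroup.coe_mul, im_mul, ((hB _).1 g.2).resolve_left h, ← perp_im (E_le_O s.2), hs, pp hQ])⟩)
      fun x y e => ?_
    simp only at e
    split_ifs at e
    · exact Subtype.ext (Subtype.ext (congrArg (·.1.1) (Sum.inl.inj e)))
    · exact Subtype.ext (mul_left_cancel (Subtype.ext (congrArg (·.1.1) (Sum.inr.inj e))))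
  · refine le_trans (Nat.card_le_card_of_injective (fun g : B => ⟨⟨_, E_le_O g.1.2⟩,
      k _ (((hB _).1 g.2).resolve_right fun e => h ⟨_, e⟩)⟩) fun x y e =>
        Subtype.ext (Subtype.ext (congrArg (·.1.1) e))) (Nat.le_mul_of_pos_left _ ?_)
    split_ifs <;> norm_num

theorem good_odd (hQ : Nondeg Q) (h7 : 7 ≤ finrank K V) (n : Nondeg (res Q W)) (h0 : W ≠ ⊥)
    (hle : finrank K W ≤ finrank K (perp Q W)) (hB : ∀ g, g ∈ B ↔ St Q W g) {m : ℕ}
    (hm : finrank K (perp Q W) = 2 * m + 1) : FP3.Good B := by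
  have : Module.Finite K V := Module.Finite.of_finite
  have := finE Q
  have h5 := finrank_add_perp hQ W
  have n' := nondeg_perp hQ n
  have h2 := Cyc.two_ne_of_odd n' ⟨m, hm⟩
  have hq := three_le h2
  have hk : 1 ≤ finrank K W := Nat.pos_of_ne_zero fun k => h0 (Submodule.finrank_eq_zero.1 k)
  obtain ⟨Y, hY, nY, dY, g, hg, b, h1⟩ := (md_minus (m := m) (by omega)).emb h2 n' (by omega)
  have h3 : ∀ w ∈ perp Q Y, (g ^ 2) w = w := fun w hw => by rw [pow_two, LinearEquiv.mul_apply, h1 w hw, h1 w hw]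
  have ha : g ^ 2 ∈ E Q := pow_two g ▸ H955.sq_mem_E (good_of_finite hQ (by omega)) hg
  have h4 : W ≤ perp Q Y := (pp hQ W).ge.trans (H955.perp_anti hY)
  have h6 := finrank_add_perp hQ Y
  have h8 := fx_lt (X := perp Q Y) hQ hB (a := ⟨_, ha⟩) fun t ht => by
    have h9 := nd_im (E_le_O t.2) n
    rcases b.conj hQ nY (fun w hw => by rw [h3 w hw, h3 w hw]) n (Or.inr ⟨fun k => h0 (le_bot_iff.1 (k ▸ h4)), h3⟩)
      (E_le_O ha) (E_le_O t.2) ((hB _).1 ht) with h | h
    · exact (hyp (nondeg_perp hQ nY) h9 h (by rw [dim_im]; omega)).imp fun v k => ⟨k.1, Or.inl k.2⟩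
    · exact (hyp (nondeg_perp hQ nY) (nondeg_perp hQ h9) h (by rw [perp_im (E_le_O t.2), dim_im]; omega)).imp
        fun v k => ⟨k.1, Or.inr k.2⟩
  rw [show finrank K (perp Q Y) = finrank K W + 1 by omega] at h8
  refine N2.good_of_le (a := ⟨_, ha⟩) ((hB _).2 (Or.inl (im_eq (fun w hw => (h3 w (h4 hw)).symm ▸ hw) le_rfl))) le_rfl
    (num2 (num1 hq hk h8) (card_St hQ n hB) (y := Fintype.card K ^ (finrank K W * (finrank K W - 1) / 2)) ?_
      (Cyc.card_O_le n' (by omega)) (le_trans (Nat.mul_le_mul_left _ ?_) (Cyc.card_O_ge hQ h7))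
      (H450.Ux.card_O_le hQ (by omega)))
  · by_cases h9 : finrank K W = 2
    · have h10 := Cyc.card_O_two n h9
      rw [h9, show 2 * (2 - 1) / 2 = 1 from rfl, pow_one]
      omega
    · have h10 := Cyc.card_O_le n h9
      omega
  · rw [← h5, tri_add, pow_add, pow_add, mul_comm (_ * _) (_ ^ (_ * _)), ← mul_assoc]
    refine Nat.mul_le_mul_right _ ?_
    rw [hm, ← pow_mul, show finrank K W * (2 * m + 1) = finrank K W * (2 * (m - 1)) + finrank K W * 3 by
      rw [← mul_add]; congr 1; omega, pow_add]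
    refine Nat.mul_le_mul_right _ ?_
    split_ifs with h9
    · exact le_trans (by norm_num) ((Nat.pow_le_pow_left hq 5).trans (Nat.pow_le_pow_right (by omega)
        (le_trans (by omega) (Nat.le_mul_of_pos_right _ (by omega)))))
    · refine le_trans (by norm_num) ((Nat.pow_le_pow_left hq 4).trans (Nat.pow_le_pow_right (by omega) ?_))
      rcases hk.eq_or_lt with h10 | h10
      · rw [← h10]; omega
      · exact Nat.mul_le_mul h10 (show 2 ≤ _ by omega)

/-- **the stabiliser of two blocks** -/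
theorem good_two (hQ : Nondeg Q) (h7 : 7 ≤ finrank K V) (n : Nondeg (res Q W)) (h0 : W ≠ ⊥) (h1 : perp Q W ≠ ⊥)
    (hB : ∀ g, g ∈ B ↔ St Q W g) (hx : ¬ Ex Q W) : FP3.Good B := by
  have : Module.Finite K V := Module.Finite.of_finite
  wlog hle : finrank K W ≤ finrank K (perp Q W) generalizing W
  · exact this (nondeg_perp hQ n) h1 (by rwa [pp hQ]) (fun g => (hB g).trans (st_perp hQ (E_le_O g.2)).symm)
      (fun k => hx ⟨k.1, by
        have h : H182.Sign.Sg (res Q (perp Q (perp Q W))) 2 1 := k.2.2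
        rwa [pp hQ] at h, k.2.1⟩) (by rw [pp hQ]; omega)
  obtain ⟨m, hm | hm⟩ := Nat.even_or_odd' (finrank K (perp Q W))
  · exact good_even hQ h7 n h0 hle hB hx hm
  · exact good_odd hQ h7 n h0 hle hB hm

end Cfsg.Agent.N2C.FixO
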