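import Cfsg.Agent.N2.Cl.FixO.Blk
import Cfsg.Agent.N2.Cl.Cyc.Ord
import Cfsg.Agent.H105.SzO1

/-!
# N2 (S3519), orthogonal groups: the stabiliser of two blocks in `Ω` (helper38)

`St Q W g` : `g` preserves the pair `W`, `W^⊥`.  `good_two` : the stabiliser is good, except possibly for `O₄⁺ ⊥ O₄⁺` over
the fields with at most three elements (`Ex`), where `exists_swap` interchanges the two blocks.
-/

set_option autoImplicit false
set_option linter.unusedSectionVars false

namespace Cfsg.Agent.N2C.FixO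

open Module QuadraticMap
open Cfsg.Agent.LieClassical.OrthCore Cfsg.Agent.LieClassical.OrthTrans
open Cfsg.Agent.LieClassical.OrthFinite (good_of_finite)
open Cfsg.Agent.H955 (res perp nondeg_res_iff mem_perp mem_perp' perp_perp nondeg_perp finrank_add_perp)
open Cfsg.Agent.H182.Sign (Sg)

variable {K V : Type} [Field K] [Fintype K] [AddCommGroup V] [Module K V] [Finite V]
  {Q : QuadraticForm K V} {W Y Z : Submodule K V} {a g t : V ≃ₗ[K] V} {B : Subgroup (E Q)}

/-- the image of a subspace -/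
def im (g : V ≃ₗ[K] V) (W : Submodule K V) : Submodule K V := W.map (g : V →ₗ[K] V)

theorem mem_im {v : V} : v ∈ im g W ↔ g.symm v ∈ W := Submodule.mem_map_equiv _

theorem im_mul (g t : V ≃ₗ[K] V) (W : Submodule K V) : im (g * t) W = im g (im t W) :=
  Submodule.ext fun _ => by rw [mem_im, mem_im, mem_im]; rfl

theorem im_one (W : Submodule K V) : im 1 W = W := Submodule.ext fun _ => mem_im

theorem im_inv (g : V ≃ₗ[K] V) (W : Submodule K V) : im g⁻¹ (im g W) = W := by rw [← im_mul, inv_mul_cancel, im_one]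

theorem dim_im (g : V ≃ₗ[K] V) (W : Submodule K V) : finrank K (im g W) = finrank K W := g.finrank_map_eq W

theorem im_eq (h : ∀ w ∈ W, g w ∈ Z) (hd : finrank K Z ≤ finrank K W) : im g W = Z :=
  have : Module.Finite K V := Module.Finite.of_finite
  Submodule.eq_of_le_of_finrank_le (by rintro _ ⟨w, hw, rfl⟩; exact h w hw) (by rwa [dim_im])

theorem perp_im (hg : g ∈ O Q) (W : Submodule K V) : perp Q (im g W) = im g (perp Q W) := by
  ext v
  obtain ⟨v, rfl⟩ := g.surjective v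
  rw [mem_im, g.symm_apply_apply]
  refine ⟨fun h w hw => ?_, ?_⟩
  · rw [← polar_map hg]
    exact h _ ⟨w, hw, rfl⟩
  · rintro h _ ⟨w, hw, rfl⟩
    exact (polar_map hg w v).trans (h w hw)

theorem nd_im (hg : g ∈ O Q) (n : Nondeg (res Q W)) : Nondeg (res Q (im g W)) := by
  refine nondeg_res_iff.2 ?_
  rintro _ ⟨x, hx, rfl⟩ h
  rw [nondeg_res_iff.1 n x hx fun y hy => (polar_map hg x y).symm.trans (h _ ⟨y, hy, rfl⟩), map_zero]

variable (Q W) in
/-- `g` preserves the pair of blocks -/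
def St (g : V ≃ₗ[K] V) : Prop := im g W = W ∨ im g W = perp Q W

theorem pp (hQ : Nondeg Q) (W : Submodule K V) : perp Q (perp Q W) = W :=
  have : Module.Finite K V := Module.Finite.of_finite
  perp_perp hQ W

theorem st_perp (hQ : Nondeg Q) (hg : g ∈ O Q) : St Q (perp Q W) g ↔ St Q W g := by
  have k : ∀ W, St Q W g → St Q (perp Q W) g := fun W h =>
    h.imp (fun h => by rw [← perp_im hg, h]) fun h => by rw [← perp_im hg, h]
  exact ⟨fun h => pp hQ W ▸ k _ h, k W⟩

/-- two elements which give the same pair -/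
theorem st_of (hQ : Nondeg Q) (hg : g ∈ O Q) (h1 : im g W = Z ∨ perp Q (im g W) = Z)
    (h2 : im t W = Z ∨ perp Q (im t W) = Z) : St Q W (g⁻¹ * t) := by
  have h3 : im t W = im g W ∨ im t W = perp Q (im g W) := by
    rcases h1 with rfl | rfl
    · exact h2.imp id fun h => by rw [← h, pp hQ]
    · exact h2.symm.imp (fun h => by rw [← pp hQ (im t W), h, pp hQ]) id
  exact h3.imp (fun h => by rw [im_mul, h, im_inv]) fun h => by rw [im_mul, h, perp_im hg, im_inv]

/-- the fixed conjugates -/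
theorem Bl.conj (b : Bl Q Y a) (hQ : Nondeg Q) (m : Nondeg (res Q Y)) (hp : ∀ w ∈ perp Q Y, a (a w) = w)
    (n : Nondeg (res Q W)) (hs : finrank K W ≠ finrank K (perp Q W) ∨ (perp Q Y ≠ ⊥ ∧ ∀ w ∈ perp Q Y, a w = w))
    (ha : a ∈ O Q) (ht : t ∈ O Q) (h : St Q W (t⁻¹ * a * t)) : im t W ≤ perp Q Y ∨ perp Q (im t W) ≤ perp Q Y := by
  have : Module.Finite K V := Module.Finite.of_finite
  have h1 : ∀ P, im a (im t P) = im t (im (t⁻¹ * a * t) P) := fun P => by
    rw [← im_mul, ← im_mul, mul_assoc, mul_inv_cancel_left]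
  rcases h with h | h
  · exact (b.core m hp (nd_im ht n) fun z hz => ((h1 W).trans (congrArg _ h)).le ⟨z, hz, rfl⟩).imp id H955.perp_anti
  rcases hs with hs | hs
  · exact absurd (by rw [← h, dim_im]) hs
  have h2 : im a (im t W) = perp Q (im t W) := by rw [h1, h, perp_im ht]
  exact absurd (b.noswap hQ m hs.2 (nd_im ht n) (fun z hz => h2.le ⟨z, hz, rfl⟩) fun z hz =>
    (show im a (perp Q (im t W)) = im t W by rw [← perp_im ha, h2, pp hQ]).le ⟨z, hz, rfl⟩) hs.1

theorem finE (Q : QuadraticForm K V) : Finite (E Q) :=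
  have : Finite (V ≃ₗ[K] V) := Finite.of_injective (fun g : V ≃ₗ[K] V => (g : V → V)) DFunLike.coe_injective
  inferInstance

/-- the larger block is a block of `a` -/
theorem good_blk (hQ : Nondeg Q) (n : Nondeg (res Q W)) (h0 : W ≠ ⊥) (hle : finrank K W ≤ finrank K (perp Q W))
    (hB : ∀ g, g ∈ B ↔ St Q W g) (ha : a ∈ E Q) (b : Bl Q (perp Q W) a) (hW : ∀ w ∈ W, a w ∈ W)
    (hp : ∀ w ∈ W, a (a w) = w) (hs : finrank K W ≠ finrank K (perp Q W) ∨ ∀ w ∈ W, a w = w) : FP3.Good B := by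
  have : Module.Finite K V := Module.Finite.of_finite
  have := finE Q
  refine N2.good_of_one (a := ⟨a, ha⟩) ((hB _).2 (Or.inl (im_eq hW le_rfl))) (N2.fx_le_one fun t ht => (hB t).2 ?_)
  have h1 := b.conj hQ (nondeg_perp hQ n) (by rwa [pp hQ]) n (by rw [pp hQ]; exact hs.imp id fun h => ⟨h0, h⟩)
    (E_le_O ha) (E_le_O t.2) ((hB _).1 ht)
  refine h1.imp (fun h => Submodule.eq_of_le_of_finrank_le (by rwa [pp hQ] at h) (dim_im _ _).ge) fun h => ?_
  have h2 := H955.perp_anti (Q := Q) h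
  rw [pp hQ, pp hQ] at h2
  exact (Submodule.eq_of_le_of_finrank_le h2 (by rwa [dim_im])).symm

theorem good_md (hQ : Nondeg Q) (h5 : 5 ≤ finrank K V) (n : Nondeg (res Q W)) (h0 : W ≠ ⊥)
    (hle : finrank K W ≤ finrank K (perp Q W)) (hB : ∀ g, g ∈ B ↔ St Q W g) {m : ℕ} {ε : ℤ} (h : Md K m ε 2)
    (hU : Sg (res Q (perp Q W)) m ε) : FP3.Good B := by
  have : Module.Finite K V := Module.Finite.of_finite
  obtain ⟨g, hg, b, h1⟩ := h.on hU
  rw [pp hQ] at h1
  have h2 : ∀ w ∈ W, (g ^ 2) w = w := fun w hw => by rw [pow_two, LinearEquiv.mul_apply, h1 w hw, h1 w hw]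
  exact good_blk hQ n h0 hle hB (pow_two g ▸ H955.sq_mem_E (good_of_finite hQ h5) hg) b
    (fun w hw => (h2 w hw).symm ▸ hw) (fun w hw => by rw [h2 w hw, h2 w hw]) (Or.inr h2)

theorem three_le (h2 : (2 : K) ≠ 0) : 3 ≤ Fintype.card K := by
  have h1 : 1 < Fintype.card K := Fintype.one_lt_card
  by_contra h3
  have h4 := FiniteField.cast_card_eq_zero K
  rw [show Fintype.card K = 2 by omega] at h4
  exact h2 (by exact_mod_cast h4)

/-- correction by two orthogonal reflections -/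
theorem exists_inv (hG : Good Q) (h2 : (2 : K) ≠ 0) (n : Nondeg (res Q W)) (h3 : 3 ≤ finrank K W) (hg : g ∈ O Q) :
    ∃ t ∈ H955.reflGrp Q W, t * t = 1 ∧ t * g ∈ E Q := by
  have : Module.Finite K V := Module.Finite.of_finite
  obtain ⟨ν, hν⟩ := FiniteField.exists_nonsquare (F := K) fun k => h2 (by
    have := (ringChar.spec K 2).2 (by rw [k])
    exact_mod_cast this)
  obtain ⟨x, hx⟩ := H954.TSing.exists_val n (by omega) 1
  have hx0 : Q x.1 ≠ 0 := fun k => one_ne_zero (hx.symm.trans k)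
  have n1 := H955.nondeg_span_singleton (Q := res Q W) h2 hx0
  obtain ⟨y, hy⟩ := H954.TSing.exists_val (nondeg_perp n n1) (by
    have h4 := finrank_add_perp n (Submodule.span K {x})
    have h5 := finrank_span_le_card (R := K) ({x} : Set W)
    rw [Set.toFinset_singleton, Finset.card_singleton] at h5
    omega) ν
  have hy0 : Q y.1 ≠ 0 := fun k => hν (by rw [← hy, show res (res Q W) _ y = 0 from k]; exact IsSquare.zero)
  have hc : Commute (refl Q x.1 hx0) (refl Q y.1 hy0) := refl_comm _ _ (y.2 x (Submodule.mem_span_singleton_self x))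
  have hs : ∀ i j : ℕ, refl Q x.1 hx0 ^ i * refl Q y.1 hy0 ^ j * (refl Q x.1 hx0 ^ i * refl Q y.1 hy0 ^ j) = 1 :=
    fun i j => by
      rw [(hc.symm.pow_pow j i).mul_mul_mul_comm, ← (Commute.refl _).mul_pow, ← (Commute.refl _).mul_pow,
        refl_mul_self, refl_mul_self, one_pow, one_pow, one_mul]
  let H : Subgroup (V ≃ₗ[K] V) :=
    { carrier := {s | ∃ i j : ℕ, s = refl Q x.1 hx0 ^ i * refl Q y.1 hy0 ^ j}
      one_mem' := ⟨0, 0, by rw [pow_zero, pow_zero, one_mul]⟩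
      mul_mem' := by
        rintro _ _ ⟨i, j, rfl⟩ ⟨k, l, rfl⟩
        exact ⟨i + k, j + l, by rw [pow_add, pow_add, (hc.symm.pow_pow j k).mul_mul_mul_comm]⟩
      inv_mem' := by
        rintro _ ⟨i, j, rfl⟩
        exact ⟨i, j, inv_eq_of_mul_eq_one_left (hs i j)⟩ }
  have hH : H ≤ H955.reflGrp Q W := by
    rintro _ ⟨i, j, rfl⟩
    exact mul_mem (pow_mem (Subgroup.subset_closure (by exact ⟨_, hx0, x.2, rfl⟩)) i)
      (pow_mem (Subgroup.subset_closure (by exact ⟨_, hy0, y.1.2, rfl⟩)) j)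
  have key : ∀ {a v : V} (ha : Q a ≠ 0) (hv : Q v ≠ 0), IsSquare (Q a * (Q v)⁻¹) →
      refl Q a ha * refl Q v hv ∈ E Q := fun {a v} ha hv ⟨c, hc⟩ => by
    have hc0 : c ≠ 0 := by
      rintro rfl
      exact mul_ne_zero ha (inv_ne_zero hv) (hc.trans (mul_zero _))
    have hcv : Q (c • v) = Q a := by
      rw [QuadraticMap.map_smul, ← hc, smul_eq_mul, mul_assoc, inv_mul_cancel₀ hv, mul_one]
    rw [← refl_smul hv hc0 (hcv ▸ ha)]
    exact hG.refl_mul_refl_mem _ ha hcv
  refine (H105.SzO.adjust hG (hH.trans (H955.reflGrp_le_O W)) (fun z hz => ?_) hg).imp fun s k =>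
    ⟨hH k.1, by obtain ⟨i, j, rfl⟩ := k.1; exact hs i j, k.2⟩
  by_cases h4 : IsSquare (Q z)⁻¹
  · exact ⟨_, ⟨1, 0, by rw [pow_one, pow_zero, mul_one]⟩, key hx0 hz (by rwa [show Q x.1 = 1 from hx, one_mul])⟩
  · exact ⟨_, ⟨0, 1, by rw [pow_one, pow_zero, one_mul]⟩, key hy0 hz (by
      rw [show Q y.1 = ν from hy]; exact H182.Sign.isSquare_mul_of_not hν h4)⟩

/-- `O₃ ⊥ O₄⁺` -/
theorem good_three (hQ : Nondeg Q) (n : Nondeg (res Q W)) (h3 : finrank K W = 3) (hB : ∀ g, g ∈ B ↔ St Q W g)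
    (hU : Sg (res Q (perp Q W)) 2 1) : FP3.Good B := by
  have : Module.Finite K V := Module.Finite.of_finite
  have h2 := Cyc.two_ne_of_odd n (by rw [h3]; decide)
  have h4 := hU.dim
  have h5 := finrank_add_perp hQ W
  obtain ⟨g, hg, b, h1⟩ := (md_four one_pos (three_le h2)).on hU
  rw [pp hQ] at h1
  rw [pow_one] at b
  obtain ⟨t, ht, h6, h7⟩ := exists_inv (good_of_finite hQ (by omega)) h2 n h3.ge hg
  have h8 : ∀ w ∈ W, (t * g) w = t w := fun w hw => by rw [LinearEquiv.mul_apply, h1 w hw]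
  have h9 := (H955.reflGrp_stab ht).1
  exact good_blk hQ n (fun k => by rw [k, finrank_bot] at h3; omega) (by omega) hB h7
    (b.congr fun y hy => H955.reflGrp_fix ht _ (b.iv y hy)) (fun w hw => (h8 w hw).symm ▸ h9 w hw)
    (fun w hw => by rw [h8 w hw, h8 _ (h9 w hw), ← LinearEquiv.mul_apply, h6]; rfl) (Or.inl (by omega))

variable (Q W) in
/-- the exception -/
def Ex : Prop := Fintype.card K ≤ 3 ∧ Sg (res Q W) 2 1 ∧ Sg (res Q (perp Q W)) 2 1

theorem good_even (hQ : Nondeg Q) (h7 : 7 ≤ finrank K V) (n : Nondeg (res Q W)) (h0 : W ≠ ⊥)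
    (hle : finrank K W ≤ finrank K (perp Q W)) (hB : ∀ g, g ∈ B ↔ St Q W g) (hx : ¬ Ex Q W) {m : ℕ}
    (hm : finrank K (perp Q W) = 2 * m) : FP3.Good B := by
  have : Module.Finite K V := Module.Finite.of_finite
  have h5 := finrank_add_perp hQ W
  have n' := nondeg_perp hQ n
  rcases exists_sg n' hm with hU | hU
  swap
  · exact good_md hQ (by omega) n h0 hle hB (md_minus (by omega)) hU
  by_cases h3 : 3 ≤ m
  · exact good_md hQ (by omega) n h0 hle hB (md_plus h3) hU
  obtain rfl : m = 2 := by omega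
  by_cases h4 : finrank K W = 3
  · exact good_three hQ n h4 hB hU
  rcases exists_sg n (m := 2) (by omega) with hW | hW
  · exact good_md hQ (by omega) n h0 hle hB (md_four two_pos (not_le.1 fun k => hx ⟨k, hW, hU⟩)) hU
  · exact good_md hQ (by omega) n' (fun k => by rw [k, finrank_bot] at hm; omega) (by rw [pp hQ]; omega)
      (fun g => (hB g).trans (st_perp hQ (E_le_O g.2)).symm) (md_minus le_rfl) (by rwa [pp hQ])

/-- isometric blocks are interchanged by `Ω` -/
theorem exists_swap (hQ : Nondeg Q) (h5 : 5 ≤ finrank K V) {m : ℕ} {ε : ℤ} (hW : Sg (res Q W) m ε)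
    (hU : Sg (res Q (perp Q W)) m ε) : ∃ g ∈ E Q, im g W = perp Q W := by
  have : Module.Finite K V := Module.Finite.of_finite
  have h1 := hW.dim
  have h2 := hU.dim
  have h3 := finrank_add_perp hQ W
  obtain ⟨e, he⟩ := hW.exists_equiv hU
  obtain ⟨f, hf⟩ := hU.exists_equiv (show Sg (res Q (perp Q (perp Q W))) m ε by rwa [pp hQ])
  obtain ⟨g, hg, h4, -⟩ := H955.exists_glueQ hW.nondeg hU.nondeg e he f hf
  obtain ⟨s, hs, w, hw, rfl⟩ := H955.exists_refl_mul (good_of_finite hQ h5) (P := perp Q W) (fun c => by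
    obtain ⟨v, hv⟩ := H954.TSing.exists_val hU.nondeg (by omega) c
    exact ⟨v, v.2, hv⟩) hg
  refine ⟨w, hw, im_eq (fun x hx => ?_) (by omega)⟩
  have h5 := (H955.reflGrp_stab hs).2 _ ((h4 ⟨x, hx⟩).symm ▸ (e ⟨x, hx⟩).2 : (s * w) x ∈ perp Q W)
  rwa [← LinearEquiv.mul_apply, inv_mul_cancel_left] at h5

end Cfsg.Agent.N2C.FixO
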